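import Cfsg.Agent.H455.Cov.Tool
import Cfsg.Agent.H568.SC.Mon
import Cfsg.Agent.H436.MonLoc
import Cfsg.Agent.H257.El.EngA
import Cfsg.Agent.NotCT.Orders

/-!
# S2499: the Monster (helper455)

Elements of orders 59, 71, 47.
-/

set_option autoImplicit false

namespace Cfsg.Agent.H455.Cov

open Cfsg Subgroup Cfsg.Agent.OrdDiv Cfsg.Agent.H278.Cov

/-- the factorisation of the order of the Monster -/
def lMon : List (ℕ × ℕ) :=
  [(2, 46), (3, 20), (5, 9), (7, 6), (11, 2), (13, 3), (17, 1), (19, 1), (23, 1), (29, 1), (31, 1), (41, 1),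
    (47, 1), (59, 1), (71, 1)]

theorem noOrd_71_47 (z : Spor.Monster) : orderOf z ≠ 71 * 47 := by
  obtain ⟨e⟩ := Cfsg.Agent.MonsterP.Equiv.equiv
  refine H257.El.noOrd_congr e (H257.El.noOrd_of_noComm (by norm_num) (by norm_num) fun x y hx hy hxy => ?_) z
  apply H436.MonLoc.not_dvd_47 (r := 71) (by simp) hx
  have h1 := Subgroup.orderOf_dvd_natCard _
    (mem_centralizer_singleton_iff.2 hxy.symm : y ∈ centralizer ({x} : Set _))
  rwa [hy] at h1

theorem noTwo_m (tab : OrderTable.{0}) (known : H257.El.Known.{0}) {T : Type} [Group T] [Finite T]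
    (h : Spor.IsoM T) : NoTwo T := by
  have hc := NotCT.Orders.m h
  obtain ⟨e⟩ := h
  have h59 : ∀ w : ℕ, w.Prime → 59 ≠ w → ∀ z : T, orderOf z ≠ 59 * w := fun w hw hne =>
    H257.El.noOrd_of_cent (by norm_num) (H537.Cop.SC.congr e (H568.SC.Mon.sc known)) hw hne
  refine noTwo_of_miss (a := 59) (W := [71, 47]) (by norm_num) (by rw [hc]; norm_num) ?_ ?_ ?_
  · intro w hw
    simp only [List.mem_cons, List.not_mem_nil, or_false] at hw
    rw [hc]
    rcases hw with rfl | rfl <;> norm_num
  · refine bad_of_chkW tab known (l := lMon) hc (by norm_num) ?_ ?_ (by decide +kernel)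
    · intro w hw
      simp only [List.mem_cons, List.not_mem_nil, or_false] at hw
      rcases hw with rfl | rfl <;> norm_num
    · intro w hw
      simp only [List.mem_cons, List.not_mem_nil, or_false] at hw
      rcases hw with rfl | rfl <;> exact h59 _ (by norm_num) (by norm_num)
  · exact (bad_of_chk tab known (l := lMon) hc (r := 71) (p := 47) (by norm_num) (by norm_num)
      (H257.El.noOrd_congr e noOrd_71_47) (by decide +kernel)).miss

end Cfsg.Agent.H455.Cov
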