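import Cfsg.Agent.H455.Cov.Tool
import Cfsg.Agent.H257.El.Der.B
import Cfsg.Agent.H291.SCBaby
import Cfsg.Agent.NotCT.Orders

/-!
# S2499: the Baby Monster (helper455)

Elements of order 47, and one of the primes 31, 7, 11, 19 is missing in every proper subgroup.
-/

set_option autoImplicit false

namespace Cfsg.Agent.H455.Cov

open Cfsg Subgroup Cfsg.Agent.OrdDiv Cfsg.Agent.H278.Cov

/-- the factorisation of the order of the Baby Monster -/
def lBab : List (ℕ × ℕ) :=
  [(2, 41), (3, 13), (5, 6), (7, 2), (11, 1), (13, 1), (17, 1), (19, 1), (23, 1), (31, 1), (47, 1)]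

theorem noTwo_b (tab : OrderTable.{0}) (known : H257.El.Known.{0}) {T : Type} [Group T] [Finite T]
    (h : Spor.IsoB T) : NoTwo T := by
  have hc := NotCT.Orders.b h
  obtain ⟨e⟩ := h
  have hno : ∀ p : ℕ, p.Prime → p ≠ 2 → ¬ p ∣ 4030387200 * 7 → ∀ z : T, orderOf z ≠ p * 7 := fun p hp hp2 hpd =>
    H257.El.noOrd_congr e (H257.El.noOrd_of_noComm hp (by norm_num) fun x y hx hy =>
      H257.El.Der.ncomm_seven hp hp2 hpd hx hy)
  have h47 : ∀ w : ℕ, w.Prime → 47 ≠ w → ∀ z : T, orderOf z ≠ 47 * w := fun w hw hne =>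
    H257.El.noOrd_of_cent (by norm_num) (H537.Cop.SC.congr e (H291.SCBaby.sc known)) hw hne
  have hW : ∀ w ∈ [31, 7, 11, 19], w.Prime ∧ w ∣ Nat.card T ∧ 47 ≠ w := by
    intro w hw
    simp only [List.mem_cons, List.not_mem_nil, or_false] at hw
    rw [hc]
    rcases hw with rfl | rfl | rfl | rfl <;> norm_num
  refine noTwo_of_miss (a := 47) (W := [31, 7, 11, 19]) (by norm_num) (by rw [hc]; norm_num)
    (fun w hw => ⟨(hW w hw).1, (hW w hw).2.1⟩) ?_ ?_
  · exact bad_of_chkW tab known (l := lBab) hc (by norm_num) (fun w hw => (hW w hw).1)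
      (fun w hw => h47 w (hW w hw).1 (hW w hw).2.2) (by decide +kernel)
  · refine miss_of_chk tab known (l := lBab) hc (r := 31) (p := 7) (by norm_num) (by norm_num)
      (hno 31 (by norm_num) (by norm_num) (by norm_num)) ?_ (by decide +kernel)
    intro w hw
    simp only [List.mem_cons, List.not_mem_nil, or_false] at hw
    rcases hw with rfl | rfl
    · exact ⟨by norm_num, hno 11 (by norm_num) (by norm_num) (by norm_num)⟩
    · exact ⟨by norm_num, hno 19 (by norm_num) (by norm_num) (by norm_num)⟩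

end Cfsg.Agent.H455.Cov
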